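import Groth.Agent.Reductive.MultGa
import Groth.Agent.Reductive.MultTypeComm
import Groth.Agent.Reductive.BaseChangeMT
import Groth.Agent.AlgGrp1.Basic
import Groth.Agent.AlgGrp1.AffineGrp
import Groth.Agent.Misc1.Unip.Diag
import Groth.Agent.Sga3.MultTypeField
import Groth.Agent.Reductive2.UnipotentTrivial
import Groth.Agent.Reductive2.MultTypeSpec
import Groth.Agent.S8392

/-!
Over an algebraically closed field, a commutative affine extension of a group of multiplicative type
by a group of multiplicative type is of multiplicative type.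
-/

set_option autoImplicit false
universe u

open CategoryTheory MonoidalCategory CartesianMonoidalCategory MonObj GrpObj AlgebraicGeometry
open Groth.Reductive
open scoped TensorProduct Groth.Agf

noncomputable section

namespace Groth.Reductive.ExtMT

/-- Multiplicative type is invariant under isomorphisms of groups. -/
theorem isMultTypeFT_of_iso {S : Scheme.{u}} {H H' : Over S} [GrpObj H] [GrpObj H'] (e : H ≅ H')
    [IsMonHom e.hom] (hH : SGA3x.IsMultTypeFT H) : SGA3x.IsMultTypeFT H' := by
  obtain ⟨S', f, h1, h2, h3, hloc⟩ := hH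
  refine ⟨S', f, h1, h2, h3, fun s ↦ ?_⟩
  obtain ⟨U, hU, M, iM, hM, ⟨φ⟩⟩ := hloc s
  let e' : Red.bc (U.ι ≫ f) H ≅ Red.bc (U.ι ≫ f) H' := (Over.pullback (U.ι ≫ f)).mapIso e
  haveI : IsMonHom e'.hom := inferInstanceAs (IsMonHom ((Over.pullback (U.ι ≫ f)).map e.hom))
  exact ⟨U, hU, M, iM, hM, ⟨(Grp.mkIso' e').symm ≪≫ φ⟩⟩

variable {k : Type u} [Field k] {A : Type u} [CommRing A] [HopfAlgebra k A]

/-- The additive character attached to a primitive element. -/
def gaChar (x : A) : CoactBr.sp k A ⟶ Red.Ga (Spec (CommRingCat.of k)) :=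
  gaMk (CoactBr.sp k A) (Groth.Reductive2.UnipTriv.spFn A x)

lemma gaFn_gaChar (x : A) {X : Over (Spec (CommRingCat.of k))} (y : X ⟶ CoactBr.sp k A) :
    Red.gaFn (y ≫ gaChar x) = Groth.Reductive2.UnipTriv.val y x := by
  rw [gaFn_comp, gaChar, gaFn_gaMk]
  rfl

lemma isMonHom_gaChar {x : A} (hx : Groth.Misc1.Unip.primDefect k A x = 0) : IsMonHom (gaChar (k := k) x) := by
  refine Groth.AlgGrp1.isMonHom_of_points _ fun X a b ↦ gaFn_injective ?_
  rw [gaFn_mul, gaFn_gaChar, gaFn_gaChar, gaFn_gaChar, Groth.Reductive2.UnipTriv.val_mul, AlgHom.comp_apply,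
    Bialgebra.comulAlgHom_apply,
    show Coalgebra.comul (R := k) x = x ⊗ₜ[k] (1 : A) + (1 : A) ⊗ₜ[k] x by
      rwa [Groth.Misc1.Unip.primDefect_apply, sub_sub, sub_eq_zero] at hx,
    map_add, Algebra.TensorProduct.lift_tmul, Algebra.TensorProduct.lift_tmul, map_one, map_one,
    _root_.mul_one, _root_.one_mul]

/-- A Hopf algebra spanned by its group-like elements gives a group of multiplicative type. -/
theorem isMultTypeFT_sp_of_span [Algebra.FiniteType k A]
    (hd : Submodule.span k {a : A | IsGroupLikeElem k a} = ⊤) : SGA3x.IsMultTypeFT (CoactBr.sp k A) := by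
  refine Groth.Reductive2.MTSpec.isMultTypeFT A k (Groth.Sga3.MultType.isDiag_of_span ?_)
  refine top_le_iff.1 fun z _ ↦ ?_
  induction z using TensorProduct.induction_on with
  | zero => exact Submodule.zero_mem _
  | add a b ha hb => exact Submodule.add_mem _ (ha trivial) (hb trivial)
  | tmul c a =>
    have h1 : a ∈ Submodule.span k {b : A | IsGroupLikeElem k b} := by rw [hd]; trivial
    rw [show c ⊗ₜ[k] a = c • ((1 : k) ⊗ₜ[k] a) by rw [TensorProduct.smul_tmul', smul_eq_mul, _root_.mul_one]]
    refine Submodule.smul_mem _ c ?_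
    induction h1 using Submodule.span_induction with
    | mem b hb =>
      refine Submodule.subset_span ?_
      refine ⟨?_, ?_⟩
      · rw [TensorProduct.counit_tmul, hb.counit_eq_one]; simp
      · rw [TensorProduct.comul_tmul, hb.comul_eq_tmul_self, CommSemiring.comul_apply]; simp
    | zero => rw [TensorProduct.tmul_zero]; exact Submodule.zero_mem _
    | add a b _ _ ha hb => rw [TensorProduct.tmul_add]; exact Submodule.add_mem _ (ha trivial) (hb trivial)
    | smul d a _ ha => rw [TensorProduct.tmul_smul]; exact Submodule.smul_of_tower_mem _ d (ha trivial)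

/-- A commutative affine extension of a group of multiplicative type by another one is of multiplicative type. -/
theorem isMultTypeFT_of_ext [IsAlgClosed k] {E N K : Over (Spec (CommRingCat.of k))} [GrpObj E] [GrpObj N]
    [GrpObj K] [IsAffine E.left] [LocallyOfFiniteType E.hom] [LocallyOfFiniteType K.hom]
    (hE : ∀ (X : Over (Spec (CommRingCat.of k))) (a b : X ⟶ E), a * b = b * a)
    (p : E ⟶ K) [IsMonHom p] [Flat p.left] [Surjective p.left] (i : N ⟶ E) [IsMonHom i]
    (hker : AlgGrp.IsKernel i p) (hN : SGA3x.IsMultTypeFT N) (hK : SGA3x.IsMultTypeFT K) :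
    SGA3x.IsMultTypeFT E := by
  obtain ⟨A, _, _, _, e, he⟩ := Groth.AlgGrp1.exists_hopf_iso E
  haveI := he
  haveI : Coalgebra.IsCocomm k A := Groth.Reductive2.UnipTriv.isCocomm_of_comm fun X a b ↦ by
    rw [← cancel_mono e.hom, MonObj.mul_comp, MonObj.mul_comp, hE]
  have hc : Groth.AlgGrp1.IsCover p := Groth.AlgGrp1.isCover p
  have hprim : Function.Injective (Groth.Misc1.Unip.primDefect k A) := by
    rw [injective_iff_map_eq_zero]
    intro x hx
    haveI := isMonHom_gaChar hx
    obtain ⟨u, hudef, hum⟩ : ∃ u : E ⟶ Red.Ga (Spec (CommRingCat.of k)), u = e.inv ≫ gaChar x ∧ IsMonHom u :=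
      ⟨_, rfl, inferInstance⟩
    have hiu : i ≫ u = 1 := Groth.Agent.S8392.result _ N hN (i ≫ u)
    obtain ⟨u', hu'⟩ := hc.exists_desc u fun T a b hab ↦ by
      have h1 : (b⁻¹ * a) ≫ p = toUnit T ≫ η[K] := by
        rw [MonObj.mul_comp, GrpObj.inv_comp, hab, inv_mul_cancel, Hom.one_def]
      have h2 : (b⁻¹ * a) ≫ u = 1 := by
        rw [← IsPullback.lift_fst hker (b⁻¹ * a) (toUnit T) h1, Category.assoc, hiu, MonObj.comp_one]
      have h3 : (b⁻¹ * a) ≫ u = (b ≫ u)⁻¹ * (a ≫ u) :=
        (MonObj.mul_comp (b⁻¹) a u).trans (congrArg (· * (a ≫ u)) (GrpObj.inv_comp b u))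
      rw [h3] at h2
      exact (inv_mul_eq_one.1 h2).symm
    haveI : IsMonHom u' := Groth.AlgGrp1.isMonHom_of_points _ fun X a b ↦ by
      obtain ⟨T, c, a', b', hcT, ha, hb⟩ := hc.exists_lift₂ a b
      apply hcT.cancel
      rw [MonObj.comp_mul, ← Category.assoc, MonObj.comp_mul, ← ha, ← hb, ← MonObj.mul_comp,
        Category.assoc, hu', (MonObj.mul_comp a' b' u), ← Category.assoc c, ← ha, ← Category.assoc c,
        ← hb, Category.assoc, Category.assoc, hu']
    have hu : u = 1 := by rw [← hu', Groth.Agent.S8392.result _ K hK u', MonObj.comp_one]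
    have hg : gaChar (k := k) x = 1 := by
      rw [← Iso.hom_inv_id_assoc e (gaChar x), show e.inv ≫ gaChar x = 1 from hudef ▸ hu, MonObj.comp_one]
    have h0 := gaFn_gaChar x (𝟙 (CoactBr.sp k A))
    rw [Category.id_comp, hg, gaFn_one] at h0
    refine (map_eq_zero_iff (Groth.Reductive2.UnipTriv.spFn A) ?_).1 h0.symm
    exact ((Scheme.ΓSpecIso (CommRingCat.of A)).symm.commRingCatIsoToRingEquiv).injective
  have hd := Groth.Misc1.Unip.isDiagonalizable_of_primDefect hprim
  exact isMultTypeFT_of_iso e (isMultTypeFT_sp_of_span hd)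

end Groth.Reductive.ExtMT
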